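import Groth.Agent.AmpleX.Generated
import Groth.Agent.AmpleX.Separated
import Groth.Agent.AssPtX.Noeth
import Groth.Agent.CurveCohLib.Skyscraper
import Groth.Agent.H23.PicInv
import Groth.Prelude.Def_ClSub2
import Mathlib.AlgebraicGeometry.Morphisms.FiniteType
import Mathlib.AlgebraicGeometry.Noetherian
import Mathlib.RingTheory.IntegralClosure.IsIntegralClosure.Basic

/-!
# Sections of negative twists vanish at non-closed associated points
-/

universe u

open CategoryTheory AlgebraicGeometry TopologicalSpace Opposite MonoidalCategory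
open scoped TensorProduct
open Groth.Agent.H23.PicMul

set_option backward.isDefEq.respectTransparency false
set_option backward.isDefEq.respectTransparency.types false
set_option linter.style.haveILetI false

namespace Groth.Agent.AmpleNeg

open Groth.Agent

variable {X : Scheme.{u}} {M N : X.Modules}

/-- Tensoring with a frame is injective on germs. -/
theorem germ_eq_zero_of_tmul {U : X.Opens} {x : X} (hx : x ∈ U) (a : Γ(M, U)) {e : Γ(N, U)}
    (he : InvX.IsFrame e)
    (h : (CohB1.tensorMod M N).presheaf.germ U x hx (InvX.tmul a e) = 0) :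
    M.presheaf.germ U x hx a = 0 := by
  let P := CohB1.toPMod M
  let Q := CohB1.toPMod N
  haveI hi := KFlatLib.isIso_stalk_unitShP (x := x) (P ⊗ Q)
  let u : KFlatLib.stalkMod x (P ⊗ Q) →ₗ[X.presheaf.stalk x]
      KFlatLib.stalkMod x (DCoh.toP.obj (DCoh.shP.obj (P ⊗ Q))) :=
    ((KFlatLib.stalkP x).map (KFlatLib.unitShP (P ⊗ Q))).hom
  have hu : Function.Bijective u :=
    ConcreteCategory.bijective_of_isIso ((KFlatLib.stalkP x).map (KFlatLib.unitShP (P ⊗ Q)))
  let ga : KFlatLib.stalkMod x P := KFlatLib.germP P U hx a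
  let gb : KFlatLib.stalkMod x Q := KFlatLib.germP Q U hx e
  let eb := LinearEquiv.ofBijective (LinearMap.toSpanSingleton (X.presheaf.stalk x) (KFlatLib.stalkMod x Q) gb)
    (he.germ_bijective hx)
  have h1 : u (KFlatLib.tensorStalkEquiv P Q (ga ⊗ₜ gb)) = 0 := by
    refine Eq.trans ?_ h
    exact (congrArg u (KFlatLib.ofTensor_germ U hx a e)).trans
      (KFlatLib.stalkModMap_germ _ U hx _)
  have h2 : ga ⊗ₜ[X.presheaf.stalk x] gb = 0 :=
    (KFlatLib.tensorStalkEquiv P Q).injective ((hu.1 (h1.trans (map_zero u).symm)).trans (map_zero _).symm)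
  have h3 := congrArg ((TensorProduct.congr (LinearEquiv.refl _ (KFlatLib.stalkMod x P)) eb.symm).trans
    (TensorProduct.rid (X.presheaf.stalk x) (KFlatLib.stalkMod x P))) h2
  rw [map_zero, LinearEquiv.trans_apply, TensorProduct.congr_tmul, TensorProduct.rid_tmul] at h3
  have h4 : eb.symm gb = 1 := by
    rw [LinearEquiv.symm_apply_eq]
    show gb = (1 : X.presheaf.stalk x) • gb
    rw [one_smul]
  rw [h4, LinearEquiv.refl_apply, one_smul] at h3
  exact h3

theorem isFT_one (X : Scheme.{u}) : CohB1.IsFT (Coh.structureModule X) :=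
  (QCoh.isFT_iff QCoh.isQCoh_structureModule).2 fun U => Module.Finite.self Γ(X, U.1)

theorem isInvertible_inverse {L : X.Modules} (hL : PicF.IsInvertible L) (h : ClSub.IsInverseOf L M) :
    PicF.IsInvertible M := by
  obtain ⟨M', hM', h'⟩ := H23.PicInv.exists_inverse hL
  obtain ⟨e⟩ : Nonempty (M' ≅ M) := cl_eq_iff.1 (by
    have h1 : PicF.cl L * PicF.cl M = 1 := by rw [← cl_tensor, H23.PicMul.one_def]; exact cl_eq_iff.2 h
    calc PicF.cl M' = PicF.cl M' * (PicF.cl L * PicF.cl M) := by rw [h1, mul_one]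
      _ = PicF.cl M := by
        rw [← mul_assoc, mul_comm (PicF.cl M'), ← cl_tensor, cl_eq_iff.2 h', ← H23.PicMul.one_def, one_mul])
  exact H23.PicMul.isInvertible_of_iso e hM'

/-- The stalks of `M ⊗ N` are those of `M` where `N` has a frame. -/
theorem exists_stalkEquiv {U : X.Opens} {x : X} (hx : x ∈ U) {e : Γ(N, U)} (he : InvX.IsFrame e) :
    Nonempty (M.presheaf.stalk x ≃ₗ[X.presheaf.stalk x] (CohB1.tensorMod M N).presheaf.stalk x) := by
  let P := CohB1.toPMod M
  let Q := CohB1.toPMod N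
  haveI hi := KFlatLib.isIso_stalk_unitShP (x := x) (P ⊗ Q)
  let u : KFlatLib.stalkMod x (P ⊗ Q) ≃ₗ[X.presheaf.stalk x]
      KFlatLib.stalkMod x (DCoh.toP.obj (DCoh.shP.obj (P ⊗ Q))) :=
    LinearEquiv.ofBijective ((KFlatLib.stalkP x).map (KFlatLib.unitShP (P ⊗ Q))).hom
      (ConcreteCategory.bijective_of_isIso ((KFlatLib.stalkP x).map (KFlatLib.unitShP (P ⊗ Q))))
  let eb := LinearEquiv.ofBijective (LinearMap.toSpanSingleton (X.presheaf.stalk x) (KFlatLib.stalkMod x Q)
    (KFlatLib.germP Q U hx e)) (he.germ_bijective hx)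
  let E : KFlatLib.stalkMod x P ≃ₗ[X.presheaf.stalk x]
      KFlatLib.stalkMod x (DCoh.toP.obj (DCoh.shP.obj (P ⊗ Q))) :=
    (((TensorProduct.rid (X.presheaf.stalk x) (KFlatLib.stalkMod x P)).symm.trans
      (TensorProduct.congr (LinearEquiv.refl _ (KFlatLib.stalkMod x P)) eb)).trans
        (KFlatLib.tensorStalkEquiv P Q)).trans u
  exact ⟨E⟩

/-- Tensoring with an invertible module preserves weakly associated points. -/
theorem isWeakAssPoint_of_tensor (hN : PicF.IsInvertible N) {x : X}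
    (h : Curv2.IsWeakAssPoint (CohB1.tensorMod M N) x) : Curv2.IsWeakAssPoint M x := by
  obtain ⟨U, hx, e, he⟩ := InvX.exists_frame hN x
  obtain ⟨E⟩ := exists_stalkEquiv (M := M) hx he
  obtain ⟨m, hm⟩ := h
  refine ⟨E.symm m, Eq.trans (congrArg Ideal.radical ?_) hm⟩
  refine SetLike.ext fun r => ?_
  rw [LinearMap.mem_ker, LinearMap.mem_ker, LinearMap.toSpanSingleton_apply, LinearMap.toSpanSingleton_apply]
  exact ((congrArg (· = 0) (E.symm.map_smul r m).symm).to_iff).trans
    (map_eq_zero_iff E.symm E.symm.injective)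

/-- At a non-closed point of an affine open of a scheme locally of finite type over a field some
function has residue transcendental over the field. -/
theorem exists_transcendental {k : Type u} [Field k] [X.Over (Spec (CommRingCat.of k))]
    [LocallyOfFiniteType (X ↘ (Spec (CommRingCat.of k)))] {G : X.Opens} (hG : IsAffineOpen G) {x : X}
    (hx : x ∈ G) (hnc : ¬ IsClosed ({x} : Set X)) :
    ∃ f : Γ(X, G), ∀ p : Polynomial k, p ≠ 0 →
      IsUnit (Polynomial.eval₂ (Curv2.stalkMap k X x) (X.presheaf.germ G x hx f) p) := by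
  classical
  let ψ : k →+* Γ(X, G) := (X.presheaf.map (homOfLE (le_top : G ≤ ⊤)).op).hom.comp
    (Coh.toGlobal (X ↘ Spec (CommRingCat.of k)))
  have hψ : (X.presheaf.germ G x hx).hom.comp ψ = Curv2.stalkMap k X x := RingHom.ext fun c =>
    X.presheaf.germ_res_apply (homOfLE (le_top : G ≤ ⊤)) x hx _
  let P := hG.primeIdealOf ⟨x, hx⟩
  by_contra hcon
  push Not at hcon
  have hint : ((Ideal.Quotient.mk P.asIdeal).comp ψ).IsIntegral := fun q => by
    obtain ⟨f, rfl⟩ := Ideal.Quotient.mk_surjective q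
    obtain ⟨p, hp, hpu⟩ := hcon f
    rw [← hψ, ← Polynomial.hom_eval₂] at hpu
    have hmem : Polynomial.eval₂ ψ f p ∈ P.asIdeal := by
      by_contra hn
      exact hpu ((X.mem_basicOpen _ x hx).1 ((QCoh.mem_basicOpen_iff_notMem hG hx _).2 hn))
    refine ⟨p * Polynomial.C p.leadingCoeff⁻¹, Polynomial.monic_mul_leadingCoeff_inv hp, ?_⟩
    rw [Polynomial.eval₂_mul, ← Polynomial.hom_eval₂, Ideal.Quotient.eq_zero_iff_mem.2 hmem, zero_mul]
  have hfield : IsField (Γ(X, G) ⧸ P.asIdeal) := by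
    algebraize [(Ideal.Quotient.mk P.asIdeal).comp ψ]
    exact isField_of_isIntegral_of_isField' (Field.toIsField k)
  have hmax : P.asIdeal.IsMaximal := Ideal.Quotient.maximal_of_isField _ hfield
  haveI : JacobsonSpace X := LocallyOfFiniteType.jacobsonSpace (X ↘ Spec (CommRingCat.of k))
  refine hnc ?_
  refine isClosed_singleton_of_isLocallyClosed_singleton ?_
  have h1 : IsClosed ({P} : Set (Spec Γ(X, G))) := (PrimeSpectrum.isClosed_singleton_iff_isMaximal P).2 hmax
  have h2 : (hG.fromSpec '' {P}) = ({x} : Set X) := by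
    rw [Set.image_singleton, hG.fromSpec_primeIdealOf]
  rw [← h2]
  exact h1.isLocallyClosed.image hG.fromSpec.isOpenEmbedding.isInducing
    hG.fromSpec.isOpenEmbedding.isOpen_range.isLocallyClosed

/-- Germs at a non-closed point of global sections of high negative twists vanish. -/
theorem eventually_germ_eq_zero {k : Type u} [Field k] [X.Over (Spec (CommRingCat.of k))]
    [IsProper (X ↘ (Spec (CommRingCat.of k)))] {L Minv F : X.Modules} (hL : CohB1.IsAmple L)
    (hinv : ClSub.IsInverseOf L Minv) (hF : Coh.IsCoh F) {x : X} (hnc : ¬ IsClosed ({x} : Set X)) :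
    ∃ n₀ : ℕ, ∀ n, n₀ ≤ n → ∀ σ : Γ(CohB1.tensorMod F (CohB1.tensorPow Minv n), ⊤),
      (CohB1.tensorMod F (CohB1.tensorPow Minv n)).presheaf.germ ⊤ x trivial σ = 0 := by
  classical
  haveI := hL.2.1
  haveI : X.IsSeparated := AmpleX.isSeparated_of_isAmple hL
  haveI := CurveCohLib.finite_HH (k := k) hF 0
  obtain ⟨hLi, hc, hloc⟩ := AmpleX.isAmple_iff.1 hL
  obtain ⟨a, ha, s, hxs, hG⟩ := hloc x
  let G := CohB1.genLocus _ s
  obtain ⟨f, hf⟩ := exists_transcendental (k := k) hG hxs hnc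
  let N := Module.finrank k (Coh.HH X F 0)
  have hLa := InvX.isInvertible_tensorPow hLi a
  choose j₀ hj₀ using fun i : Fin (N + 1) => AmpleX.exists_extend (M := Coh.structureModule X)
    (AmpleX.isQCoh_one X) hLa s (show Γ(Coh.structureModule X, G) from f ^ (i : ℕ))
  let J := Finset.univ.sup j₀
  choose T hT using fun i : Fin (N + 1) => hj₀ i J (Finset.le_sup (f := j₀) (Finset.mem_univ i))
  obtain ⟨n₁, hn₁⟩ := AmpleX.eventually_generated (F := Coh.structureModule X) hL (AmpleX.isQCoh_one X)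
    (isFT_one X)
  refine ⟨a * J + n₁, fun n hn σ => ?_⟩
  obtain ⟨G', eG', ι, g, hg⟩ := hn₁ (n - a * J) (by omega)
  have hG'inv : PicF.IsInvertible G' := H23.PicMul.isInvertible_of_iso eG'.symm
    (InvX.isInvertible_tensorMod InvX.isInvertible_structureModule (InvX.isInvertible_tensorPow hLi _))
  obtain ⟨i₀, V, hxV, hVf⟩ := InvX.exists_frame_of_generated hG'inv g x (hg x)
  let W := G ⊓ V
  have hxW : x ∈ W := ⟨hxs, hxV⟩
  let Lj := CohB1.tensorMod (Coh.structureModule X) (CohB1.tensorPow (CohB1.tensorPow L a) J)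
  let E := CohB1.tensorMod (CohB1.tensorMod F (CohB1.tensorPow Minv n)) (CohB1.tensorMod Lj G')
  obtain ⟨iso⟩ : Nonempty (E ≅ F) := cl_eq_iff.1 (by
    have hLM : PicF.cl L * PicF.cl Minv = 1 := by
      rw [← cl_tensor, H23.PicMul.one_def]; exact cl_eq_iff.2 hinv
    have hG'c : PicF.cl G' = PicF.cl (Coh.structureModule X) * PicF.cl L ^ (n - a * J) := by
      rw [cl_eq_iff.2 ⟨eG'⟩, cl_tensor, cl_tensorPow]
    rw [cl_tensor, cl_tensor, cl_tensor, cl_tensor, cl_tensorPow, cl_tensorPow, cl_tensorPow, hG'c,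
      ← H23.PicMul.one_def, one_mul, one_mul, ← pow_mul, ← pow_add, Nat.add_sub_cancel' (by omega : a * J ≤ n),
      mul_assoc, ← mul_pow, mul_comm (PicF.cl Minv), hLM, one_pow, mul_one])
  let τ : Fin (N + 1) → Γ(E, ⊤) := fun i => InvX.tmul σ (InvX.tmul (T i) (g i₀))
  let eH := Sheaf.H.equiv₀ (Coh.toAb F) Limits.isTerminalTop
  let v : Fin (N + 1) → Coh.HH X F 0 := fun i => eH.symm (show Γ(F, ⊤) from iso.hom.app ⊤ (τ i))
  -- the frame near `x`
  let e₁ : Γ(Lj, W) := InvX.tmul (M := Coh.structureModule X)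
    (show Γ(Coh.structureModule X, W) from (1 : Γ(X, W)))
    (AmpleX.powElt (AModX.res (CohB1.tensorPow L a) (le_top : W ≤ ⊤) (InvX.one s)) J)
  let e : Γ(CohB1.tensorMod Lj G', W) := InvX.tmul e₁ (AModX.res G' (le_top : W ≤ ⊤) (g i₀))
  have he : InvX.IsFrame e := by
    refine InvX.isFrame_tmul (InvX.isFrame_tmul (InvX.isFrame_one W) (AmpleX.isFrame_powElt ?_ J)) ?_
    · have := (AmpleX.res_genLocus_frame s).res (inf_le_left : W ≤ G)
      rwa [AModX.res_res] at this
    · have := hVf.res (inf_le_right : W ≤ V)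
      rwa [AModX.res_res] at this
  let σ' := AModX.res _ (le_top : W ≤ ⊤) σ
  let φ := X.presheaf.germ G x hxs f
  let g₀ := E.presheaf.germ W x hxW (InvX.tmul σ' e)
  have hτ : ∀ i : Fin (N + 1), E.presheaf.germ ⊤ x trivial (τ i) = φ ^ (i : ℕ) • g₀ := fun i => by
    have h1 : AModX.res E (le_top : W ≤ ⊤) (τ i) =
        (AModX.resR (inf_le_left : W ≤ G) f ^ (i : ℕ)) • InvX.tmul σ' e := by
      have h2 : AModX.res Lj (le_top : W ≤ ⊤) (T i) = (AModX.resR (inf_le_left : W ≤ G) f ^ (i : ℕ)) • e₁ := by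
        have h3 := congrArg (AModX.res Lj (inf_le_left : W ≤ G)) (hT i)
        rw [AModX.res_res, InvX.res_tmul, AmpleX.res_powElt, AModX.res_res] at h3
        rw [h3, ← InvX.tmul_smul_left]
        refine congrArg (fun z => InvX.tmul z _) ?_
        exact (map_pow (AModX.resR (inf_le_left : W ≤ G)) f _).trans (mul_one _).symm
      rw [show τ i = InvX.tmul σ (InvX.tmul (T i) (g i₀)) from rfl, InvX.res_tmul, InvX.res_tmul, h2,
        InvX.tmul_smul_left, InvX.tmul_smul_right]
    rw [← InvX.germ_res' (le_top : W ≤ ⊤) hxW (τ i), h1, QCoh.germ_smul', map_pow, InvX.germ_resR']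
  have hdep : ¬ LinearIndependent k v := fun hli => by
    have := hli.fintype_card_le_finrank
    simp [N] at this
  obtain ⟨c, hsum, i₁, hi₁⟩ := Fintype.not_linearIndependent_iff.1 hdep
  let p : Polynomial k := ∑ i : Fin (N + 1), Polynomial.monomial (i : ℕ) (c i)
  have hp : p ≠ 0 := fun h0 => hi₁ <| by
    have := congrArg (fun q => Polynomial.coeff q (i₁ : ℕ)) h0
    simpa [p, Polynomial.finsetSum_coeff, Polynomial.coeff_monomial, Fin.val_inj] using this
  have hzero : (Polynomial.eval₂ (Curv2.stalkMap k X x) φ p) • g₀ = 0 := by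
    let C : Fin (N + 1) → Γ(X, ⊤) := fun i => Coh.toGlobal (X ↘ Spec (CommRingCat.of k)) (c i)
    have hz : ∑ i, C i • τ i = 0 := by
      apply (ConcreteCategory.bijective_of_isIso (iso.hom.app ⊤)).1
      rw [map_zero, map_sum]
      have h6 : ∀ i, iso.hom.app ⊤ (C i • τ i) = (eH (c i • v i) : Γ(F, ⊤)) := fun i => by
        rw [Scheme.Modules.Hom.app_smul, CurveCohLib.h0Equiv_smul]
        refine congrArg₂ (· • ·) ?_ (eH.apply_symm_apply _).symm
        exact (ConcreteCategory.congr_hom (X.presheaf.map_id (op ⊤)) _).symm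
      simp only [h6]
      exact ((map_sum eH (fun i => c i • v i) Finset.univ).symm.trans (congrArg eH hsum)).trans (map_zero eH)
    rw [Polynomial.eval₂_finsetSum, Finset.sum_smul]
    have h7 := congrArg (E.presheaf.germ ⊤ x trivial) hz
    rw [map_zero, map_sum] at h7
    refine Eq.trans (Finset.sum_congr rfl fun i _ => ?_) h7
    rw [Polynomial.eval₂_monomial, mul_smul, ← hτ]
    exact (QCoh.germ_smul' E (U := ⊤) (hx := (trivial : x ∈ (⊤ : X.Opens))) (C i) (τ i)).symm
  have hu := hf p hp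
  have hg₀ : g₀ = 0 := (hu.smul_eq_zero).1 hzero
  have := germ_eq_zero_of_tmul hxW σ' he hg₀
  rwa [InvX.germ_res' le_top hxW σ] at this

end Groth.Agent.AmpleNeg
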